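import Cfsg.Agent.H813.SaxSpK
import Cfsg.Agent.H262.ElFourA
import Cfsg.Agent.H851.Dg.Count
import Cfsg.Agent.H583.SylLin
import Cfsg.Agent.FastGrp
import Cfsg.Agent.Prune
set_option linter.all false
prune_inst 0x7f00000000000000000000000000000000000000000000000000000000000000000000000000000000000000000000000000000000000000000000000000000000000000000000000000000000000000003fffffffffffffffffffffffffffbeffbdffffffff
open scoped Cfsg.Agent.FastGrp

-- part: H618/Dp/Pairs
section
/-!
# S5734, the row `PSp_4(q)`: a family of elements of `Sp_4(q)`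

`XM S`, `S = (s, t)`: on the hyperbolic plane `⟨e_i, f_i⟩` the companion matrix of `x ^ 2 - S i x + 1`.
`family_count`: `|P| |G| ≤ 8 q ^ 2 #{x : x is conjugate to X S, S ∈ P}`.
-/

set_option autoImplicit false

namespace Cfsg.Agent.H618.Dp

open Cfsg Cfsg.Geo
open Cfsg.Agent.ClassicalGeometry.SympBasic Cfsg.Agent.H876 Cfsg.Agent.H931
open scoped Matrix MatrixGroups

variable {F : Type*} [Field F]

/-- the index type -/
abbrev I4 : Type := Fin 2 ⊕ Fin 2

/-- the matrix -/
def XM (S : Fin 2 → F) : Matrix I4 I4 F := Matrix.fromBlocks 0 (-1) 1 (Matrix.diagonal S)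

/-- the inverse -/
def YM (S : Fin 2 → F) : Matrix I4 I4 F := Matrix.fromBlocks (Matrix.diagonal S) 1 (-1) 0

theorem XM_mul_YM (S : Fin 2 → F) : XM S * YM S = 1 := by
  rw [XM, YM, Matrix.fromBlocks_multiply, ← Matrix.fromBlocks_one]
  congr 1 <;> simp

theorem YM_mul_XM (S : Fin 2 → F) : YM S * XM S = 1 := by
  rw [XM, YM, Matrix.fromBlocks_multiply, ← Matrix.fromBlocks_one]
  congr 1 <;> simp

theorem XM_add_YM (S : Fin 2 → F) : XM S + YM S = Matrix.diagonal (Sum.elim S S) := by
  rw [XM, YM, Matrix.fromBlocks_add, ← Matrix.fromBlocks_diagonal]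
  congr 1 <;> simp

theorem XM_inl (S : Fin 2 → F) (v : I4 → F) (i : Fin 2) : (XM S *ᵥ v) (Sum.inl i) = - v (Sum.inr i) := by
  have h : v = Sum.elim (v ∘ Sum.inl) (v ∘ Sum.inr) := (Sum.elim_comp_inl_inr v).symm
  conv_lhs => rw [h, XM, Matrix.fromBlocks_mulVec]
  simp [Matrix.neg_mulVec]

theorem XM_inr (S : Fin 2 → F) (v : I4 → F) (i : Fin 2) :
    (XM S *ᵥ v) (Sum.inr i) = v (Sum.inl i) + S i * v (Sum.inr i) := by
  have h : v = Sum.elim (v ∘ Sum.inl) (v ∘ Sum.inr) := (Sum.elim_comp_inl_inr v).symm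
  conv_lhs => rw [h, XM, Matrix.fromBlocks_mulVec]
  rw [Sum.elim_inr, Pi.add_apply, Matrix.one_mulVec, Matrix.mulVec_diagonal]
  rfl

/-- the element -/
def X (S : Fin 2 → F) : GL I4 F := ⟨XM S, YM S, XM_mul_YM S, YM_mul_XM S⟩

@[simp] theorem coe_X (S : Fin 2 → F) : ((X S : GL I4 F) : Matrix I4 I4 F) = XM S := rfl

@[simp] theorem coe_X_inv (S : Fin 2 → F) : (((X S)⁻¹ : GL I4 F) : Matrix I4 I4 F) = YM S := rfl

theorem X_mem (S : Fin 2 → F) : X S ∈ spGL 2 F := by
  rw [mem_spGL_iff]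
  intro u v
  rw [sympForm_eq_sum, sympForm_eq_sum]
  refine Finset.sum_congr rfl fun i _ => ?_
  rw [coe_X, XM_inl, XM_inl, XM_inr, XM_inr]
  ring

/-- the element of the symplectic group -/
def XS (S : Fin 2 → F) : spGL 2 F := ⟨X S, X_mem S⟩

/-- an invertible `h` with `h X S = X S' h` : entries -/
theorem entry {S S' : Fin 2 → F} {h : GL I4 F} (hh : h * X S = X S' * h) (a b : I4) :
    (h : Matrix I4 I4 F) a b * Sum.elim S S b = Sum.elim S' S' a * (h : Matrix I4 I4 F) a b := by
  have h1 : (h : Matrix I4 I4 F) * XM S = XM S' * h := congrArg (fun g : GL I4 F => (g : Matrix I4 I4 F)) hh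
  have h2 : h * (X S)⁻¹ = (X S')⁻¹ * h := by
    rw [mul_inv_eq_iff_eq_mul, mul_assoc, hh, inv_mul_cancel_left]
  have h3 : (h : Matrix I4 I4 F) * YM S = YM S' * h := congrArg (fun g : GL I4 F => (g : Matrix I4 I4 F)) h2
  have h4 : (h : Matrix I4 I4 F) * Matrix.diagonal (Sum.elim S S) = Matrix.diagonal (Sum.elim S' S') * h := by
    rw [← XM_add_YM, ← XM_add_YM, mul_add, add_mul, h1, h3]
  have h5 := congrFun (congrFun h4 a) b
  rwa [Matrix.mul_diagonal, Matrix.diagonal_mul] at h5

theorem exists_entry (h : GL I4 F) (b : I4) : ∃ a, (h : Matrix I4 I4 F) a b ≠ 0 := by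
  by_contra hcon
  push Not at hcon
  have h1 : (((h⁻¹ : GL I4 F) : Matrix I4 I4 F) * (h : Matrix I4 I4 F)) b b = 1 := by
    rw [← Units.val_mul, inv_mul_cancel, Units.val_one, Matrix.one_apply_eq]
  rw [Matrix.mul_apply, Finset.sum_eq_zero (fun j _ => by rw [hcon, mul_zero])] at h1
  exact zero_ne_one h1

theorem mem_pair {S S' : Fin 2 → F} {h : GL I4 F} (hh : h * X S = X S' * h) (i : Fin 2) : ∃ j, S i = S' j := by
  obtain ⟨a, ha⟩ := exists_entry h (Sum.inl i)
  have h1 := entry hh a (Sum.inl i)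
  rw [mul_comm] at h1
  have h2 := mul_right_cancel₀ ha h1
  rcases a with j | j
  · exact ⟨j, h2⟩
  · exact ⟨j, h2⟩

theorem pair_eq {S S' : Fin 2 → F} (hS : S 0 ≠ S 1) {h : GL I4 F} (hh : h * X S = X S' * h) :
    S = S' ∨ S = ![S' 1, S' 0] := by
  obtain ⟨i, hi⟩ := mem_pair hh 0
  obtain ⟨j, hj⟩ := mem_pair hh 1
  fin_cases i <;> fin_cases j
  · exact absurd (hi.trans hj.symm) hS
  · left
    funext k
    fin_cases k
    · exact hi
    · exact hj
  · right
    funext k
    fin_cases k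
    · exact hi
    · exact hj
  · exact absurd (hi.trans hj.symm) hS

/-- the norm one elements -/
def nrm (s : F) : Set (F × F) := {p | p.1 ^ 2 + s * p.1 * p.2 + p.2 ^ 2 = 1}

theorem card_nrm [Finite F] (s : F) : Nat.card (nrm s) ≤ 2 * Nat.card F := by
  classical
  have : Fintype F := Fintype.ofFinite F
  rw [Nat.card_eq_fintype_card, Nat.card_eq_fintype_card, ← Set.toFinset_card]
  have h1 := Finset.card_le_mul_card_image (s := (nrm s).toFinset) (f := Prod.fst) 2 (fun a ha => ?_)
  · refine h1.trans (Nat.mul_le_mul_left _ ?_)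
    exact Finset.card_le_univ _
  · -- fibres
    let P : Polynomial F := Polynomial.X ^ 2 + Polynomial.C (s * a) * Polynomial.X + Polynomial.C (a ^ 2 - 1)
    have hdeg : P.natDegree = 2 := by
      have h2 := Polynomial.natDegree_quadratic (a := (1 : F)) (b := s * a) (c := a ^ 2 - 1) one_ne_zero
      simpa [P] using h2
    have hP0 : P ≠ 0 := by
      intro h
      rw [h, Polynomial.natDegree_zero] at hdeg
      exact absurd hdeg (by norm_num)
    have hsub : ((nrm s).toFinset.filter fun x => Prod.fst x = a).card ≤ P.roots.toFinset.card := by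
      refine Finset.card_le_card_of_injOn Prod.snd (fun x hx => ?_) (fun x hx y hy hxy => ?_)
      · rw [Finset.mem_coe, Finset.mem_filter, Set.mem_toFinset] at hx
        rw [Finset.mem_coe, Multiset.mem_toFinset, Polynomial.mem_roots hP0, Polynomial.IsRoot]
        obtain ⟨h3, h4⟩ := hx
        have h5 : x.1 ^ 2 + s * x.1 * x.2 + x.2 ^ 2 = 1 := h3
        rw [h4] at h5
        simp only [P, Polynomial.eval_add, Polynomial.eval_mul, Polynomial.eval_pow, Polynomial.eval_X,
          Polynomial.eval_C]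
        linear_combination h5
      · rw [Finset.mem_coe, Finset.mem_filter] at hx hy
        exact Prod.ext (hx.2.trans hy.2.symm) hxy
    exact hsub.trans ((Multiset.toFinset_card_le _).trans ((Polynomial.card_roots' P).trans hdeg.le))

/-- the centraliser -/
theorem card_cent [Finite F] {S : Fin 2 → F} (hS : S 0 ≠ S 1) :
    Nat.card {g : spGL 2 F // g * XS S = XS S * g} ≤ 4 * Nat.card F ^ 2 := by
  classical
  have hfin : Finite (GL I4 F) := inferInstance
  have key : ∀ g : {g : spGL 2 F // g * XS S = XS S * g},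
      ∀ i j : Fin 2, i ≠ j → ((g.1 : GL I4 F) : Matrix I4 I4 F) (Sum.inl i) (Sum.inl j) = 0 ∧
        ((g.1 : GL I4 F) : Matrix I4 I4 F) (Sum.inr i) (Sum.inl j) = 0 := by
    intro g i j hij
    have hg : (g.1 : GL I4 F) * X S = X S * (g.1 : GL I4 F) := congrArg Subtype.val g.2
    have hSij : S j - S i ≠ 0 := by
      rw [sub_ne_zero]
      fin_cases i <;> fin_cases j
      · exact absurd rfl hij
      · exact hS.symm
      · exact hS
      · exact absurd rfl hij
    constructor
    · have h1 := entry hg (Sum.inl i) (Sum.inl j)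
      simp only [Sum.elim_inl] at h1
      have h2 : (S j - S i) * ((g.1 : GL I4 F) : Matrix I4 I4 F) (Sum.inl i) (Sum.inl j) = 0 := by
        linear_combination h1
      exact (mul_eq_zero.1 h2).resolve_left hSij
    · have h1 := entry hg (Sum.inr i) (Sum.inl j)
      simp only [Sum.elim_inl, Sum.elim_inr] at h1
      have h2 : (S j - S i) * ((g.1 : GL I4 F) : Matrix I4 I4 F) (Sum.inr i) (Sum.inl j) = 0 := by
        linear_combination h1
      exact (mul_eq_zero.1 h2).resolve_left hSij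
  -- the columns of `g` at `inr`
  have key2 : ∀ g : {g : spGL 2 F // g * XS S = XS S * g}, ∀ j : Fin 2,
      ((g.1 : GL I4 F) : Matrix I4 I4 F) *ᵥ Pi.single (Sum.inr j) 1 =
        XM S *ᵥ (((g.1 : GL I4 F) : Matrix I4 I4 F) *ᵥ Pi.single (Sum.inl j) 1) := by
    intro g j
    have hg : (g.1 : GL I4 F) * X S = X S * (g.1 : GL I4 F) := congrArg Subtype.val g.2
    have h1 : ((g.1 : GL I4 F) : Matrix I4 I4 F) * XM S = XM S * (g.1 : GL I4 F) :=
      congrArg (fun g : GL I4 F => (g : Matrix I4 I4 F)) hg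
    have h2 : XM S *ᵥ (Pi.single (Sum.inl j) 1 : I4 → F) = Pi.single (Sum.inr j) 1 := by
      funext k
      rcases k with k | k
      · rw [XM_inl]; simp
      · rw [XM_inr]
        rcases eq_or_ne k j with rfl | hkj
        · simp
        · have e1 : (Pi.single (Sum.inl j) (1 : F) : I4 → F) (Sum.inl k) = 0 :=
            Pi.single_eq_of_ne (fun h => hkj (Sum.inl_injective h)) _
          have e2 : (Pi.single (Sum.inl j) (1 : F) : I4 → F) (Sum.inr k) = 0 := Pi.single_eq_of_ne (by simp) _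
          have e3 : (Pi.single (Sum.inr j) (1 : F) : I4 → F) (Sum.inr k) = 0 :=
            Pi.single_eq_of_ne (fun h => hkj (Sum.inr_injective h)) _
          rw [e1, e2, e3, mul_zero, add_zero]
    rw [Matrix.mulVec_mulVec, ← h1, ← Matrix.mulVec_mulVec, h2]
  let φ : {g : spGL 2 F // g * XS S = XS S * g} → (nrm (S 0)) × (nrm (S 1)) := fun g =>
    (⟨(((g.1 : GL I4 F) : Matrix I4 I4 F) (Sum.inl 0) (Sum.inl 0),
        ((g.1 : GL I4 F) : Matrix I4 I4 F) (Sum.inr 0) (Sum.inl 0)), by
      have h1 := (mem_spGL_iff.1 g.1.2) (Pi.single (Sum.inr 0) 1) (Pi.single (Sum.inl 0) 1)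
      rw [key2, sympForm_eq_sum, Fin.sum_univ_two, XM_inl, XM_inr, XM_inl, XM_inr, Matrix.mulVec_single_one] at h1
      simp only [Matrix.col_apply] at h1
      rw [(key g 1 0 (by decide)).1, (key g 1 0 (by decide)).2, sympForm_single_inr_left, Pi.single_eq_same] at h1
      show _ ^ 2 + S 0 * _ * _ + _ ^ 2 = (1 : F)
      linear_combination h1⟩,
    ⟨(((g.1 : GL I4 F) : Matrix I4 I4 F) (Sum.inl 1) (Sum.inl 1),
        ((g.1 : GL I4 F) : Matrix I4 I4 F) (Sum.inr 1) (Sum.inl 1)), by
      have h1 := (mem_spGL_iff.1 g.1.2) (Pi.single (Sum.inr 1) 1) (Pi.single (Sum.inl 1) 1)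
      rw [key2, sympForm_eq_sum, Fin.sum_univ_two, XM_inl, XM_inr, XM_inl, XM_inr, Matrix.mulVec_single_one] at h1
      simp only [Matrix.col_apply] at h1
      rw [(key g 0 1 (by decide)).1, (key g 0 1 (by decide)).2, sympForm_single_inr_left, Pi.single_eq_same] at h1
      show _ ^ 2 + S 1 * _ * _ + _ ^ 2 = (1 : F)
      linear_combination h1⟩)
  have hφ : Function.Injective φ := by
    intro g h hgh
    have h1 := congrArg Subtype.val (congrArg Prod.fst hgh)
    have h2 := congrArg Subtype.val (congrArg Prod.snd hgh)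
    have h3 := congrArg Prod.fst h1
    have h4 := congrArg Prod.snd h1
    have h5 := congrArg Prod.fst h2
    have h6 := congrArg Prod.snd h2
    simp only [φ] at h3 h4 h5 h6
    have hcol : ∀ j : Fin 2, ((g.1 : GL I4 F) : Matrix I4 I4 F) *ᵥ Pi.single (Sum.inl j) 1 =
        ((h.1 : GL I4 F) : Matrix I4 I4 F) *ᵥ Pi.single (Sum.inl j) 1 := by
      intro j
      rw [Matrix.mulVec_single_one, Matrix.mulVec_single_one]
      funext k
      simp only [Matrix.col_apply]
      fin_cases j <;> rcases k with k | k <;> fin_cases k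
      · exact h3
      · exact (key g 1 0 (by decide)).1.trans (key h 1 0 (by decide)).1.symm
      · exact h4
      · exact (key g 1 0 (by decide)).2.trans (key h 1 0 (by decide)).2.symm
      · exact (key g 0 1 (by decide)).1.trans (key h 0 1 (by decide)).1.symm
      · exact h5
      · exact (key g 0 1 (by decide)).2.trans (key h 0 1 (by decide)).2.symm
      · exact h6
    apply Subtype.ext
    apply Subtype.ext
    apply Units.ext
    apply Matrix.ext_of_mulVec_single
    intro k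
    rcases k with k | k
    · exact hcol k
    · rw [key2, key2, hcol]
  have h1 := Nat.card_le_card_of_injective φ hφ
  rw [Nat.card_prod] at h1
  calc _ ≤ _ := h1
    _ ≤ (2 * Nat.card F) * (2 * Nat.card F) := Nat.mul_le_mul (card_nrm _) (card_nrm _)
    _ = 4 * Nat.card F ^ 2 := by ring

/-- **The family count.** -/
theorem family_count [Finite F] (P : Finset (Fin 2 → F)) (hP : ∀ S ∈ P, S 0 ≠ S 1) :
    P.card * Nat.card (spGL 2 F) ≤
      8 * Nat.card F ^ 2 * Nat.card {x : spGL 2 F // ∃ S ∈ P, ∃ g : spGL 2 F, g * XS S * g⁻¹ = x} := by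
  classical
  have hfin : Finite (GL I4 F) := inferInstance
  have : Fintype (spGL 2 F) := Fintype.ofFinite _
  let Φ : spGL 2 F × (Fin 2 → F) → spGL 2 F := fun p => p.1 * XS p.2 * p.1⁻¹
  let s : Finset (spGL 2 F × (Fin 2 → F)) := Finset.univ ×ˢ P
  have hs : s.card = Nat.card (spGL 2 F) * P.card := by
    rw [Finset.card_product, Finset.card_univ, Nat.card_eq_fintype_card]
  -- fibres
  have hfib : ∀ x ∈ s.image Φ, (s.filter fun p => Φ p = x).card ≤ 8 * Nat.card F ^ 2 := by
    intro x hx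
    obtain ⟨⟨g₀, S₀⟩, hp₀, rfl⟩ := Finset.mem_image.1 hx
    have hS₀ : S₀ ∈ P := (Finset.mem_product.1 hp₀).2
    have h1 := Finset.card_le_mul_card_image (s := s.filter fun p => Φ p = Φ (g₀, S₀)) (f := Prod.snd)
      (4 * Nat.card F ^ 2) (fun S hS => ?_)
    · have h2 : ((s.filter fun p => Φ p = Φ (g₀, S₀)).image Prod.snd).card ≤ 2 := by
        have h3 : (s.filter fun p => Φ p = Φ (g₀, S₀)).image Prod.snd ⊆ {S₀, ![S₀ 1, S₀ 0]} := by
          intro S hS
          obtain ⟨⟨g, S'⟩, hp, rfl⟩ := Finset.mem_image.1 hS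
          obtain ⟨hp1, hp2⟩ := Finset.mem_filter.1 hp
          have hS' : S' ∈ P := (Finset.mem_product.1 hp1).2
          have hp3 : g * XS S' * g⁻¹ = g₀ * XS S₀ * g₀⁻¹ := hp2
          have hp4 : (g₀⁻¹ * g) * XS S' = XS S₀ * (g₀⁻¹ * g) := by
            calc (g₀⁻¹ * g) * XS S' = g₀⁻¹ * (g * XS S' * g⁻¹) * g := by group
              _ = g₀⁻¹ * (g₀ * XS S₀ * g₀⁻¹) * g := by rw [hp3]
              _ = _ := by group
          have hp5 := congrArg Subtype.val hp4
          rcases pair_eq (hP S' hS') (h := ((g₀⁻¹ * g : spGL 2 F) : GL I4 F)) hp5 with h | h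
          · exact Finset.mem_insert.2 (Or.inl h)
          · exact Finset.mem_insert.2 (Or.inr (Finset.mem_singleton.2 h))
        exact (Finset.card_le_card h3).trans Finset.card_le_two
      calc _ ≤ _ := h1
        _ ≤ 4 * Nat.card F ^ 2 * 2 := Nat.mul_le_mul_left _ h2
        _ = _ := by ring
    · obtain ⟨⟨g₁, S₁⟩, hp₁, rfl⟩ := Finset.mem_image.1 hS
      obtain ⟨hp1, hp2⟩ := Finset.mem_filter.1 hp₁
      have hS₁ : S₁ ∈ P := (Finset.mem_product.1 hp1).2
      have hg₁ : g₁ * XS S₁ * g₁⁻¹ = g₀ * XS S₀ * g₀⁻¹ := hp2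
      have : Fintype {g : spGL 2 F // g * XS S₁ = XS S₁ * g} := Fintype.ofFinite _
      refine le_trans ?_ (card_cent (hP S₁ hS₁))
      rw [Nat.card_eq_fintype_card, ← Finset.card_univ]
      have hmem : ∀ p ∈ ((s.filter fun p => Φ p = Φ (g₀, S₀)).filter fun p => Prod.snd p = S₁),
          (g₁⁻¹ * p.1) * XS S₁ = XS S₁ * (g₁⁻¹ * p.1) ∧ p.2 = S₁ := by
        intro p hp
        obtain ⟨hp3, hp4⟩ := Finset.mem_filter.1 hp
        obtain ⟨hp5, hp6⟩ := Finset.mem_filter.1 hp3
        refine ⟨?_, hp4⟩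
        have hp7 : p.1 * XS p.2 * p.1⁻¹ = g₀ * XS S₀ * g₀⁻¹ := hp6
        have hp4' : p.2 = S₁ := hp4
        rw [hp4', ← hg₁] at hp7
        calc (g₁⁻¹ * p.1) * XS S₁ = g₁⁻¹ * (p.1 * XS S₁ * p.1⁻¹) * p.1 := by group
          _ = g₁⁻¹ * (g₁ * XS S₁ * g₁⁻¹) * p.1 := by rw [hp7]
          _ = _ := by group
      refine Finset.card_le_card_of_injOn (fun p => if h : (g₁⁻¹ * p.1) * XS S₁ = XS S₁ * (g₁⁻¹ * p.1) then
        (⟨g₁⁻¹ * p.1, h⟩ : {g : spGL 2 F // g * XS S₁ = XS S₁ * g}) else ⟨1, by rw [one_mul, mul_one]⟩)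
        (fun _ _ => Finset.mem_coe.2 (Finset.mem_univ _)) fun p hp p' hp' h => ?_
      obtain ⟨a1, a2⟩ := hmem p hp
      obtain ⟨b1, b2⟩ := hmem p' hp'
      simp only [a1, b1, dif_pos] at h
      have h1 := mul_left_cancel (Subtype.mk.inj h)
      exact Prod.ext h1 (a2.trans b2.symm)
  have h1 := Finset.card_le_mul_card_image (s := s) (f := Φ) (8 * Nat.card F ^ 2) hfib
  rw [hs, mul_comm] at h1
  refine h1.trans (Nat.mul_le_mul_left _ ?_)
  rw [Nat.card_eq_fintype_card, Fintype.card_subtype]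
  refine Finset.card_le_card ?_
  intro x hx
  obtain ⟨⟨g, S⟩, hp, rfl⟩ := Finset.mem_image.1 hx
  exact Finset.mem_filter.2 ⟨Finset.mem_univ _, S, (Finset.mem_product.1 hp).2, g, rfl⟩

end Cfsg.Agent.H618.Dp
end

-- part: H618/Dp/Red
section
/-!
# S5734, the row `PSp_4(q)`: from `Sp_4(q)` to `PSp_4(q)`

* `lift_count` : the proportion of elements of `Sp` without a conjugate in `pre R`;
* `row_of_family` : the family count for `PSp_4(q)`;
* `card_le_of_miss` : the case where a prime power dividing `q ^ 2 + 1` is missing.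
-/

set_option autoImplicit false

namespace Cfsg.Agent.H618.Dp

open Cfsg Cfsg.Geo Subgroup
open Cfsg.Agent.ClassicalGeometry.SympBasic Cfsg.Agent.H876 Cfsg.Agent.H931
open Cfsg.Agent.H262.El (pre mem_pre pre_le spToGL_injective)
open Cfsg.Agent.H851.Dg (nd CycP)
open Cfsg.Agent.H884.El (PP)
open scoped Matrix MatrixGroups

variable {F : Type*} [Field F] {m : ℕ}

/-- the isomorphism of the two symplectic groups -/
noncomputable def eSp : Matrix.symplecticGroup (Fin m) F ≃* spGL m F :=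
  MulEquiv.ofBijective ((spToGL m F).codRestrict (spGL m F) spToGL_mem)
    ⟨fun A B h => spToGL_injective (congrArg Subtype.val h), fun g => by
      obtain ⟨A, hA⟩ := exists_spToGL g.2
      exact ⟨A, Subtype.ext hA⟩⟩

theorem coe_eSp (A : Matrix.symplecticGroup (Fin m) F) : ((eSp A : spGL m F) : GL (Fin m ⊕ Fin m) F) = spToGL m F A :=
  rfl

/-- the projection -/
noncomputable def prj : spGL m F →* PSp m F :=
  (QuotientGroup.mk' (Subgroup.center (Matrix.symplecticGroup (Fin m) F))).comp (eSp (m := m) (F := F)).symm.toMonoidHom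

theorem prj_eSp (A : Matrix.symplecticGroup (Fin m) F) : prj (eSp A) = (QuotientGroup.mk A : PSp m F) := by
  change (QuotientGroup.mk ((eSp (m := m) (F := F)).symm (eSp A)) : PSp m F) = _
  rw [MulEquiv.symm_apply_apply]

theorem prj_surjective : Function.Surjective (prj (m := m) (F := F)) := by
  intro x
  obtain ⟨A, rfl⟩ := QuotientGroup.mk_surjective x
  exact ⟨eSp A, prj_eSp A⟩

theorem mem_pre_iff {R : Subgroup (PSp m F)} (g : spGL m F) : (g : GL (Fin m ⊕ Fin m) F) ∈ pre R ↔ prj g ∈ R := by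
  obtain ⟨A, rfl⟩ := (eSp (m := m) (F := F)).surjective g
  rw [coe_eSp, mem_pre, prj_eSp]

theorem card_ker [Finite F] : Nat.card (prj (m := m) (F := F)).ker * Nat.card (PSp m F) = Nat.card (spGL m F) := by
  have hfin : Finite (GL (Fin m ⊕ Fin m) F) := inferInstance
  rw [Subgroup.card_eq_card_quotient_mul_card_subgroup (prj (m := m) (F := F)).ker, mul_comm]
  congr 1
  exact Nat.card_congr (QuotientGroup.quotientKerEquivOfSurjective _ prj_surjective).symm.toEquiv

theorem card_ker_dvd [Finite F] (hm : 1 ≤ m) : Nat.card (prj (m := m) (F := F)).ker ∣ 2 := by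
  have : Fintype F := Fintype.ofFinite F
  have h1 : Nat.card (prj (m := m) (F := F)).ker =
      Nat.card (Subgroup.center (Matrix.symplecticGroup (Fin m) F)) := by
    refine Nat.card_congr ⟨fun x => ⟨(eSp (m := m) (F := F)).symm x.1, ?_⟩, fun A => ⟨eSp A.1, ?_⟩, fun x => ?_, fun A => ?_⟩
    · have h2 := x.2
      rw [MonoidHom.mem_ker] at h2
      exact (QuotientGroup.eq_one_iff _).1 h2
    · rw [MonoidHom.mem_ker, prj_eSp]
      exact (QuotientGroup.eq_one_iff _).2 A.2
    · exact Subtype.ext (MulEquiv.apply_symm_apply _ _)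
    · exact Subtype.ext (MulEquiv.symm_apply_apply _ _)
  rw [h1, Cfsg.Agent.S0246.result (q := Fintype.card F) rfl m hm]
  exact Nat.gcd_dvd_left _ _

/-- the proportion of elements without a conjugate in the subgroup -/
theorem lift_count [Finite F] {R : Subgroup (PSp m F)} {E : Set (spGL m F)}
    (hE : ∀ x ∈ E, ∀ g : spGL m F, (g * x * g⁻¹ : spGL m F).1 ∉ pre R) :
    Nat.card E * Nat.card (PSp m F) ≤ nd R * Nat.card (spGL m F) := by
  classical
  have hfin : Finite (GL (Fin m ⊕ Fin m) F) := inferInstance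
  have hfinT : Finite (PSp m F) := Finite.of_surjective _ (prj_surjective (m := m) (F := F))
  have h1 : Nat.card E ≤ nd R * Nat.card (prj (m := m) (F := F)).ker := by
    rw [nd, ← Nat.card_prod]
    have hx : ∀ x ∈ E, ∀ g : PSp m F, g * prj x * g⁻¹ ∉ R := by
      intro x hx g hg
      obtain ⟨y, rfl⟩ := prj_surjective g
      rw [← map_mul, ← map_inv, ← map_mul, ← mem_pre_iff] at hg
      exact hE x hx y hg
    refine Nat.card_le_card_of_injective (fun x : E =>
      ((⟨prj x.1, hx x.1 x.2⟩, ⟨(Function.surjInv prj_surjective (prj x.1))⁻¹ * x.1, by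
        rw [MonoidHom.mem_ker, map_mul, map_inv, Function.surjInv_eq prj_surjective, inv_mul_cancel]⟩) :
        {x : PSp m F // ∀ g : PSp m F, g * x * g⁻¹ ∉ R} × (prj (m := m) (F := F)).ker)) ?_
    intro x y hxy
    have e1 : prj x.1 = prj y.1 := congrArg Subtype.val (congrArg Prod.fst hxy)
    have e2 := congrArg Subtype.val (congrArg Prod.snd hxy)
    simp only at e2
    rw [e1] at e2
    exact Subtype.ext (mul_left_cancel e2)
  calc Nat.card E * Nat.card (PSp m F) ≤ nd R * Nat.card (prj (m := m) (F := F)).ker * Nat.card (PSp m F) :=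
        Nat.mul_le_mul_right _ h1
    _ = nd R * Nat.card (spGL m F) := by rw [mul_assoc, card_ker]

/-- **The family count for `PSp_4(q)`.** -/
theorem row_of_family [Finite F] {R : Subgroup (PSp 2 F)} (P : Finset (Fin 2 → F)) (hP : ∀ S ∈ P, S 0 ≠ S 1)
    (hR : ∀ S ∈ P, ∀ g : spGL 2 F, (g * XS S * g⁻¹ : spGL 2 F).1 ∉ pre R) :
    P.card * Nat.card (PSp 2 F) ≤ 8 * Nat.card F ^ 2 * nd R := by
  have hfin : Finite (GL I4 F) := inferInstance
  have h1 := family_count P hP
  have h2 := lift_count (R := R) (E := {x : spGL 2 F | ∃ S ∈ P, ∃ g : spGL 2 F, g * XS S * g⁻¹ = x}) (by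
    rintro x ⟨S, hS, g, rfl⟩ h
    have := hR S hS (h * g)
    rwa [show h * g * XS S * (h * g)⁻¹ = h * (g * XS S * g⁻¹) * h⁻¹ by group] at this)
  have h3 : 0 < Nat.card (spGL 2 F) := Nat.card_pos
  refine Nat.le_of_mul_le_mul_right (?_ : _ * Nat.card (spGL 2 F) ≤ _) h3
  calc P.card * Nat.card (PSp 2 F) * Nat.card (spGL 2 F) = P.card * Nat.card (spGL 2 F) * Nat.card (PSp 2 F) := by ring
    _ ≤ 8 * Nat.card F ^ 2 * Nat.card {x : spGL 2 F // ∃ S ∈ P, ∃ g : spGL 2 F, g * XS S * g⁻¹ = x} *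
        Nat.card (PSp 2 F) := Nat.mul_le_mul_right _ h1
    _ = 8 * Nat.card F ^ 2 * (Nat.card {x : spGL 2 F // ∃ S ∈ P, ∃ g : spGL 2 F, g * XS S * g⁻¹ = x} *
        Nat.card (PSp 2 F)) := by ring
    _ ≤ 8 * Nat.card F ^ 2 * (nd R * Nat.card (spGL 2 F)) := Nat.mul_le_mul_left _ h2
    _ = _ := by ring

theorem card_pre [Finite F] (R : Subgroup (PSp m F)) :
    Nat.card (pre R) = Nat.card R * Nat.card (prj (m := m) (F := F)).ker := by
  have hfin : Finite (GL (Fin m ⊕ Fin m) F) := inferInstance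
  have h1 : Nat.card (pre R) = Nat.card (R.comap (prj (m := m) (F := F))) := by
    refine Nat.card_congr ⟨fun x => ⟨⟨x.1, pre_le R x.2⟩, ?_⟩, fun x => ⟨x.1.1, ?_⟩, fun x => rfl, fun x => rfl⟩
    · rw [Subgroup.mem_comap, ← mem_pre_iff]
      exact x.2
    · rw [mem_pre_iff]
      exact x.2
  rw [h1]
  let f : R.comap (prj (m := m) (F := F)) →* R := (prj (m := m) (F := F)).subgroupComap R
  have hf : Function.Surjective f := by
    rintro ⟨y, hy⟩
    obtain ⟨x, rfl⟩ := prj_surjective y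
    exact ⟨⟨x, hy⟩, rfl⟩
  rw [Subgroup.card_eq_card_quotient_mul_card_subgroup f.ker]
  congr 1
  · exact Nat.card_congr (QuotientGroup.quotientKerEquivOfSurjective _ hf).toEquiv
  · refine Nat.card_congr ⟨fun x => ⟨x.1.1, ?_⟩, fun x => ⟨⟨x.1, ?_⟩, ?_⟩, fun x => rfl, fun x => rfl⟩
    · exact congrArg Subtype.val (MonoidHom.mem_ker.1 x.2)
    · rw [Subgroup.mem_comap, MonoidHom.mem_ker.1 x.2]
      exact R.one_mem
    · rw [MonoidHom.mem_ker]
      exact Subtype.ext (MonoidHom.mem_ker.1 x.2)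

/-- all `u`-subgroups of `Sp_2m(q)` are cyclic when `q` has order `2m` modulo `u`. -/
theorem cycP [Fintype F] {u : ℕ} (hu : PP (Nat.card F) (2 * m) u) : CycP u (spGL m F) := by
  have hfin : Finite (GL (Fin m ⊕ Fin m) F) := inferInstance
  have := Fact.mk hu.prime
  intro P hP
  by_cases hP1 : P = ⊥
  · rw [hP1]
    infer_instance
  obtain ⟨x, hxP, hx, hxc⟩ := Cfsg.Agent.H512.SylNum.exists_center hP hP1
  have h1 : IsCyclic (centralizer ({x} : Set (spGL m F))) :=
    Cfsg.Agent.H583.SylLin.isCyclic_centralizer (φ := (spGL m F).subtype) (spGL m F).subtype_injective hu.prime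
      (by rw [← Nat.card_eq_fintype_card, hu.ord, card_sum_fin]) hx
  have h2 : P ≤ centralizer ({x} : Set (spGL m F)) := by
    intro y hy
    rw [mem_centralizer_singleton_iff]
    exact (hxc y hy).symm
  exact isCyclic_of_injective (Subgroup.inclusion h2) (Subgroup.inclusion_injective h2)

/-- the case where a prime power is missing -/
theorem card_le_of_miss [Fintype F] (hm : 1 ≤ m) {u j : ℕ} (hu : PP (Nat.card F) (2 * m) u) (hj : 1 ≤ j)
    (hd : u ^ j ∣ Nat.card (PSp m F)) {R : Subgroup (PSp m F)} (hR : ¬ u ^ j ∣ Nat.card R) :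
    Nat.card (PSp m F) ≤ 4 * m * nd R := by
  have hfin : Finite (GL (Fin m ⊕ Fin m) F) := inferInstance
  have := Fact.mk hu.prime
  have hu2 : Odd u := hu.odd (by omega)
  have h1 : u ^ j ∣ Nat.card (spGL m F) := hd.trans (by rw [← card_ker]; exact dvd_mul_left _ _)
  have h2 := Cfsg.Agent.H851.Dg.sing_pow (F := F) (hu.ne0 (by omega)) (spGL m F).subtype (spGL m F).subtype_injective
    (cycP hu) hj h1
  rw [card_sum_fin] at h2
  have h3 := lift_count (R := R) (E := {x : spGL m F | u ^ j ∣ orderOf x}) (by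
    intro x hx g hg
    have h4 : u ^ j ∣ orderOf x := hx
    have h5 : orderOf (g * x * g⁻¹) = orderOf x := by
      have := orderOf_injective (MulAut.conj g).toMonoidHom (MulAut.conj g).injective x
      simpa using this
    rw [← h5, ← Subgroup.orderOf_coe, ← Subgroup.orderOf_mk _ hg] at h4
    have h6 : u ^ j ∣ Nat.card (pre R) := h4.trans (orderOf_dvd_natCard _)
    rw [card_pre] at h6
    have h7 : Nat.Coprime (u ^ j) (Nat.card (prj (m := m) (F := F)).ker) :=
      Nat.Coprime.pow_left _ (Nat.Coprime.coprime_dvd_right (card_ker_dvd hm) (Nat.coprime_two_right.2 hu2))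
    exact hR (h7.dvd_of_dvd_mul_right h6))
  have h4 : 0 < Nat.card (spGL m F) := Nat.card_pos
  refine Nat.le_of_mul_le_mul_right (?_ : _ * Nat.card (spGL m F) ≤ _) h4
  calc Nat.card (PSp m F) * Nat.card (spGL m F)
      ≤ Nat.card (PSp m F) * (2 * (2 * m) * Nat.card {x : spGL m F // u ^ j ∣ orderOf x}) := Nat.mul_le_mul_left _ h2
    _ = 4 * m * (Nat.card {x : spGL m F // u ^ j ∣ orderOf x} * Nat.card (PSp m F)) := by ring
    _ ≤ 4 * m * (nd R * Nat.card (spGL m F)) := Nat.mul_le_mul_left _ h3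
    _ = _ := by ring

end Cfsg.Agent.H618.Dp
end

private theorem dce_33625d321170 : _root_.True := by
  try have : _root_.True := by simp only [_root_.Cfsg.Agent.H851.Dg.nd.eq_1]
  try have : _root_.True := by simp only [_root_.Cfsg.Agent.H618.Dp.XM.eq_1]
  try have : _root_.True := by simp only [_root_.Cfsg.Agent.H618.Dp.YM.eq_1]
  exact _root_.True.intro
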